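import Groth.Agent.PicPn.Chart
import Groth.Agent.ProjMor.Sym
import Groth.Agent.ZeroSch.Over
import Groth.Agent.UfdExtend.Local
import Groth.Agent.S10867
import Mathlib.RingTheory.Nullstellensatz

/-!
A morphism to projective space is a closed immersion iff the pulled-back linear forms separate points and
tangent vectors.
-/

set_option autoImplicit false
set_option backward.isDefEq.respectTransparency false
set_option linter.style.haveILetI false

universe u

open CategoryTheory CategoryTheory.Limits AlgebraicGeometry TopologicalSpace Opposite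
open Groth.Agent.QC (res resO res_res res_smul)
open Groth.Agent.PicPn (P ch z X_mem)
open Groth.Agent.WeakAssLib (mgerm mgerm_res mgerm_smul)
open TMul (IsGen)

noncomputable section

namespace Groth.Agent.ProjSep

variable {k : Type u} [Field k] [IsAlgClosed k] {n : ℕ}

/-- A linear form on the chart `l`. -/
abbrev zl (l : Fin (n + 1)) (c : Fin (n + 1) → k) : Γ(P n k, ch l) :=
  GrT.deh (CohB1.polyGrading n k) (X_mem l) (ProjMor.linForms n k c)

theorem primeIdealOf_isMaximal {l : Fin (n + 1)} {y : P n k} (hy : y ∈ ch l)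
    (hc : IsClosed ({y} : Set (P n k))) :
    ((PicPn.isAffineOpen_ch (k := k) l).primeIdealOf ⟨y, hy⟩).asIdeal.IsMaximal := by
  let hU := PicPn.isAffineOpen_ch (k := k) l
  rw [← PrimeSpectrum.isClosed_singleton_iff_isMaximal]
  have : ({hU.primeIdealOf ⟨y, hy⟩} : Set (PrimeSpectrum _)) = hU.fromSpec ⁻¹' {y} := by
    ext q
    simp only [Set.mem_singleton_iff, Set.mem_preimage]
    refine ⟨fun h => h ▸ hU.fromSpec_primeIdealOf ⟨y, hy⟩, fun h => ?_⟩
    exact hU.fromSpec.isOpenEmbedding.injective (h.trans (hU.fromSpec_primeIdealOf ⟨y, hy⟩).symm)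
  rw [this]
  exact hc.preimage hU.fromSpec.continuous

/-- The coordinates of a closed point. -/
theorem exists_coord {l : Fin (n + 1)} {y : P n k} (hy : y ∈ ch l) (hc : IsClosed ({y} : Set (P n k)))
    (j : Fin (n + 1)) :
    ∃ a : k, z l j - GrT.deh _ (X_mem l) (MvPolynomial.C a) ∈
      ((PicPn.isAffineOpen_ch (k := k) l).primeIdealOf ⟨y, hy⟩).asIdeal := by
  haveI := primeIdealOf_isMaximal hy hc
  by_cases h : j = l
  · subst h
    exact ⟨1, by rw [map_one MvPolynomial.C, map_one]; simp [z, GrT.deh_self]⟩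
  · obtain ⟨e, he, heC⟩ := PicPn.exists_chart (k := k) l
    haveI : (((PicPn.isAffineOpen_ch (k := k) l).primeIdealOf ⟨y, hy⟩).asIdeal.map e).IsMaximal :=
      Ideal.map_isMaximal_of_equiv e
    obtain ⟨x, hx⟩ := MvPolynomial.isMaximal_iff_eq_vanishingIdeal_singleton.1
      (inferInstance : (((PicPn.isAffineOpen_ch (k := k) l).primeIdealOf ⟨y, hy⟩).asIdeal.map e).IsMaximal)
    refine ⟨x ⟨j, h⟩, ?_⟩
    rw [← Ideal.apply_mem_of_equiv_iff (f := e), hx, map_sub, he j h, heC, MvPolynomial.mem_vanishingIdeal_singleton_iff]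
    simp

theorem zl_single_sub (l j : Fin (n + 1)) (a : k) :
    zl l (Pi.single j 1 - a • Pi.single l 1) = z l j - GrT.deh _ (X_mem l) (MvPolynomial.C a) := by
  show GrT.deh _ _ _ = _
  rw [map_sub (ProjMor.linForms n k), map_smul, ProjMor.linForms_single, ProjMor.linForms_single,
    MvPolynomial.smul_eq_C_mul, map_sub, map_mul, GrT.deh_self, mul_one]

/-- The maximal ideal of a closed point is generated by linear forms. -/
theorem prime_le_span {l : Fin (n + 1)} {y : P n k} (hy : y ∈ ch l) (hc : IsClosed ({y} : Set (P n k))) :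
    ((PicPn.isAffineOpen_ch (k := k) l).primeIdealOf ⟨y, hy⟩).asIdeal ≤ Ideal.span
      {v | ∃ c : Fin (n + 1) → k, zl l c = v ∧
        zl l c ∈ ((PicPn.isAffineOpen_ch (k := k) l).primeIdealOf ⟨y, hy⟩).asIdeal} := by
  set p := ((PicPn.isAffineOpen_ch (k := k) l).primeIdealOf ⟨y, hy⟩).asIdeal with hp
  set J := Ideal.span {v | ∃ c : Fin (n + 1) → k, zl l c = v ∧ zl l c ∈ p} with hJ
  haveI := primeIdealOf_isMaximal hy hc
  have hJp : J ≤ p := Ideal.span_le.2 fun v ⟨c, e, hv⟩ => e ▸ hv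
  choose a ha using exists_coord (k := k) hy hc
  let D : MvPolynomial (Fin (n + 1)) k →+* Γ(P n k, ch l) ⧸ J :=
    (Ideal.Quotient.mk J).comp (GrT.deh _ (X_mem l))
  have key : D = (D.comp MvPolynomial.C).comp (MvPolynomial.eval a) := by
    refine MvPolynomial.ringHom_ext (fun c => by simp) (fun j => ?_)
    rw [RingHom.comp_apply, RingHom.comp_apply, MvPolynomial.eval_X]
    refine Ideal.Quotient.eq.2 (Ideal.subset_span ⟨Pi.single j 1 - a j • Pi.single l 1, zl_single_sub l j (a j), ?_⟩)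
    rw [zl_single_sub]
    exact ha j
  intro f hf
  obtain ⟨q, rfl⟩ := ProjMor.exists_deh_eq (X_mem (k := k) l) f
  have h1 : GrT.deh _ (X_mem l) q - GrT.deh _ (X_mem l) (MvPolynomial.C (MvPolynomial.eval a q)) ∈ J :=
    Ideal.Quotient.eq.1 (DFunLike.congr_fun key q)
  by_cases h0 : MvPolynomial.eval a q = 0
  · rwa [h0, map_zero, map_zero, sub_zero] at h1
  · exfalso
    have h2 : GrT.deh _ (X_mem l) (MvPolynomial.C (MvPolynomial.eval a q)) ∈ p := by
      have := p.sub_mem hf (hJp h1)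
      rwa [sub_sub_cancel] at this
    have hu : IsUnit (MvPolynomial.C (MvPolynomial.eval a q) : MvPolynomial (Fin (n + 1)) k) :=
      (isUnit_iff_ne_zero.2 h0).map MvPolynomial.C
    exact (inferInstance : p.IsMaximal).ne_top
      (p.eq_top_of_isUnit_mem h2 (hu.map (GrT.deh (CohB1.polyGrading n k) (X_mem (k := k) l))))

/-- A linear form vanishing at one closed point and not at another. -/
theorem exists_sep {P₁ Q₁ : P n k} (hP : IsClosed ({P₁} : Set (P n k))) (hQ : IsClosed ({Q₁} : Set (P n k)))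
    (hne : P₁ ≠ Q₁) :
    ∃ (l : Fin (n + 1)) (c : Fin (n + 1) → k), Q₁ ∈ Proj.basicOpen (CohB1.polyGrading n k) (ProjMor.linForms n k c) ∧
      Q₁ ∈ ch l ∧ P₁ ∉ Proj.basicOpen (CohB1.polyGrading n k) (ProjMor.linForms n k c) := by
  obtain ⟨l, hQl⟩ := PicPn.exists_mem_ch Q₁
  by_cases hPl : P₁ ∈ ch l
  · let hU := PicPn.isAffineOpen_ch (k := k) l
    have hb : ∀ (c : Fin (n + 1) → k) (w : P n k) (hw : w ∈ ch l),
        zl l c ∈ (hU.primeIdealOf ⟨w, hw⟩).asIdeal ↔
          w ∉ Proj.basicOpen (CohB1.polyGrading n k) (ProjMor.linForms n k c) := fun c w hw => by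
      rw [← not_iff_not, not_not, ← UfdExtend.mem_basicOpen_iff hU hw]
      have h1 : zl l c = _ := GrT.deh_of_mem _ (X_mem l) (ProjMor.linForms_mem n k c)
      rw [h1, GrT.basicOpen_away _ (X_mem l) one_pos one_pos, Proj.basicOpen_mul]
      exact ⟨fun h => h.2, fun h => ⟨hw, h⟩⟩
    suffices h : ∃ c, zl l c ∈ (hU.primeIdealOf ⟨P₁, hPl⟩).asIdeal ∧ zl l c ∉ (hU.primeIdealOf ⟨Q₁, hQl⟩).asIdeal by
      obtain ⟨c, h1, h2⟩ := h
      exact ⟨l, c, not_not.1 (mt (hb c Q₁ hQl).2 h2), hQl, (hb c P₁ hPl).1 h1⟩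
    by_contra! hall
    have hle : (hU.primeIdealOf ⟨P₁, hPl⟩).asIdeal ≤ (hU.primeIdealOf ⟨Q₁, hQl⟩).asIdeal :=
      (prime_le_span hPl hP).trans (Ideal.span_le.2 fun v ⟨c, e, hv⟩ => e ▸ hall c hv)
    have heq := (primeIdealOf_isMaximal hPl hP).eq_of_le (hU.primeIdealOf ⟨Q₁, hQl⟩).isPrime.ne_top hle
    have h3 : hU.fromSpec (hU.primeIdealOf ⟨P₁, hPl⟩) = P₁ := hU.fromSpec_primeIdealOf ⟨P₁, hPl⟩
    have h4 : hU.fromSpec (hU.primeIdealOf ⟨Q₁, hQl⟩) = Q₁ := hU.fromSpec_primeIdealOf ⟨Q₁, hQl⟩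
    exact hne (by rw [← h3, ← h4, show hU.primeIdealOf ⟨P₁, hPl⟩ = hU.primeIdealOf ⟨Q₁, hQl⟩ from PrimeSpectrum.ext heq])
  · refine ⟨l, Pi.single l 1, ?_, hQl, ?_⟩ <;> rw [ProjMor.linForms_single]
    exacts [hQl, hPl]

section Mor

variable {X : Scheme.{u}} {pX : X ⟶ Spec (CommRingCat.of k)} (f : X ⟶ CohB1.ProjSpace n k)
  (hf : f ≫ CohB1.ProjSpace.toSpec n k = pX)

/-- The pull-back of a linear form. -/
abbrev sect (pX : X ⟶ Spec (CommRingCat.of k)) (c : Fin (n + 1) → k) :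
    Γ((Scheme.Modules.pullback f).obj (Twist.twistProjSpace n k 1), ⊤) :=
  ∑ i, ProjUP.toGlobal pX (c i) • ProjUP.pullSec f (Twist.twistProjSpace n k 1) (ProjUP.coord n k i)

/-- Its germ. -/
abbrev sgerm (pX : X ⟶ Spec (CommRingCat.of k)) (c : Fin (n + 1) → k) (x : X) :
    ((Scheme.Modules.pullback f).obj (Twist.twistProjSpace n k 1)).presheaf.stalk x :=
  (((Scheme.Modules.pullback f).obj (Twist.twistProjSpace n k 1)).presheaf.germ ⊤ x trivial).hom (sect f pX c)

/-- `m_x L_x`. -/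
abbrev mL (x : X) :
    Submodule (X.presheaf.stalk x) (((Scheme.Modules.pullback f).obj (Twist.twistProjSpace n k 1)).presheaf.stalk x) :=
  IsLocalRing.maximalIdeal (X.presheaf.stalk x) • ⊤

/-- A generator near `x`, and the coefficient of a linear form. -/
theorem exists_gen {x : X} {l : Fin (n + 1)} (hx : f x ∈ ch l) :
    ∃ g : ((Scheme.Modules.pullback f).obj (Twist.twistProjSpace n k 1)).presheaf.stalk x,
      (∀ v, ∃ r : X.presheaf.stalk x, v = r • g) ∧
      (∀ (J : Ideal (X.presheaf.stalk x)) (r : X.presheaf.stalk x), r • g ∈ J • (⊤ : Submodule (X.presheaf.stalk x)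
        (((Scheme.Modules.pullback f).obj (Twist.twistProjSpace n k 1)).presheaf.stalk x)) ↔ r ∈ J) ∧
      ∀ c, sgerm f (f ≫ CohB1.ProjSpace.toSpec n k) c x =
        (f.stalkMap x).hom ((P n k).presheaf.germ (ch l) (f x) hx (zl l c)) • g := by
  have hg := ProjMor.isGen_pull1 (ProjMor.genDegOne_projSpace n k) f (X_mem (k := k) l)
    (le_refl (f ⁻¹ᵁ ch (k := k) l))
  refine ⟨mgerm _ (show x ∈ f ⁻¹ᵁ ch l from hx) (res _ le_top (ProjMor.pull1 f (X_mem (k := k) l))),
    ZeroSch.exists_smul_germ hg hx, ZeroSch.mem_ideal_smul_iff hg hx, fun c => ?_⟩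
  have h1 := ProjMor.res_pull1 f (X_mem (k := k) l) (ProjMor.linForms_mem n k c) (le_refl (f ⁻¹ᵁ ch (k := k) l))
  rw [ProjMor.pull1_linForms] at h1
  refine ((mgerm_res _ (le_top : f ⁻¹ᵁ ch l ≤ ⊤) (show x ∈ f ⁻¹ᵁ ch l from hx) _).symm.trans
    (congrArg (mgerm _ _) h1)).trans ((mgerm_smul _ _ _ _).trans (congrArg (· • _) ?_))
  refine Eq.trans ?_ (Scheme.Hom.germ_stalkMap_apply f (ch l) x hx (zl l c)).symm
  show X.presheaf.germ _ x hx ((f.appLE (ch l) (f ⁻¹ᵁ ch l) le_rfl).hom (zl l c)) = _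
  rw [Scheme.Hom.appLE_eq_app]

theorem sgerm_mem_iff {x : X} {l : Fin (n + 1)} (hx : f x ∈ ch l) (c : Fin (n + 1) → k) :
    sgerm f (f ≫ CohB1.ProjSpace.toSpec n k) c x ∈ mL f x ↔
      f x ∉ Proj.basicOpen (CohB1.polyGrading n k) (ProjMor.linForms n k c) := by
  obtain ⟨g, -, hJ, hc⟩ := exists_gen f hx
  rw [hc, hJ, IsLocalRing.mem_maximalIdeal, mem_nonunits_iff, isUnit_map_iff,
    ← Scheme.mem_basicOpen]
  have h1 : zl l c = _ := GrT.deh_of_mem _ (X_mem l) (ProjMor.linForms_mem n k c)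
  rw [h1, GrT.basicOpen_away _ (X_mem l) one_pos one_pos, Proj.basicOpen_mul]
  exact ⟨fun h h' => h ⟨hx, h'⟩, fun h h' => h h'.2⟩

/-- Tangent condition at a point. -/
theorem tangent_iff {x : X} (hy : IsClosed ({f x} : Set (CohB1.ProjSpace n k))) :
    (mL f x ≤ Submodule.span (X.presheaf.stalk x)
        {v | ∃ c, v = sgerm f (f ≫ CohB1.ProjSpace.toSpec n k) c x ∧ v ∈ mL f x} ⊔
      IsLocalRing.maximalIdeal (X.presheaf.stalk x) ^ 2 • ⊤) ↔
    Ideal.map (f.stalkMap x).hom (IsLocalRing.maximalIdeal ((CohB1.ProjSpace n k).presheaf.stalk (f x))) ⊔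
      IsLocalRing.maximalIdeal (X.presheaf.stalk x) ^ 2 = IsLocalRing.maximalIdeal (X.presheaf.stalk x) := by
  obtain ⟨l, hl⟩ := PicPn.exists_mem_ch (f x)
  obtain ⟨g, hg, hJ, hc⟩ := exists_gen f hl
  let m := IsLocalRing.maximalIdeal (X.presheaf.stalk x)
  let hU := PicPn.isAffineOpen_ch (k := k) l
  letI : Algebra Γ(P n k, ch l) ((P n k).presheaf.stalk (f x)) := TopCat.Presheaf.algebra_section_stalk _ ⟨f x, hl⟩
  haveI := hU.isLocalization_stalk ⟨f x, hl⟩
  constructor
  · intro h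
    refine le_antisymm (sup_le (Ideal.map_le_iff_le_comap.2 fun r hr => ?_) (Ideal.pow_le_self two_ne_zero))
      fun r hr => ?_
    · show (f.stalkMap x).hom r ∈ m
      rw [IsLocalRing.mem_maximalIdeal, mem_nonunits_iff, isUnit_map_iff]
      exact hr
    · refine (hJ _ r).1 ((h.trans (sup_le ?_ ?_)) (Submodule.smul_mem_smul hr trivial))
      · rw [Submodule.span_le]
        rintro v ⟨c, rfl, hv⟩
        rw [hc] at hv ⊢
        refine Submodule.smul_mem_smul (Submodule.mem_sup_left (Ideal.mem_map_of_mem _ ?_)) trivial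
        have := (hJ _ _).1 hv
        rwa [IsLocalRing.mem_maximalIdeal, mem_nonunits_iff, isUnit_map_iff] at this
      · exact Submodule.smul_mono_left le_sup_right
  · intro h v hv
    obtain ⟨r, rfl⟩ := hg v
    have hr : r ∈ m := (hJ _ r).1 hv
    change r ∈ IsLocalRing.maximalIdeal (X.presheaf.stalk x) at hr
    rw [← h] at hr
    obtain ⟨a, ha, b, hb, rfl⟩ := Submodule.mem_sup.1 hr
    rw [add_smul]
    refine Submodule.add_mem_sup ?_ (Submodule.smul_mem_smul hb trivial)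
    let S := Submodule.span (X.presheaf.stalk x)
      {v | ∃ c, v = sgerm f (f ≫ CohB1.ProjSpace.toSpec n k) c x ∧ v ∈ mL f x}
    suffices hle : Ideal.map (f.stalkMap x).hom (IsLocalRing.maximalIdeal ((P n k).presheaf.stalk (f x))) ≤
        S.comap (LinearMap.toSpanSingleton _ _ g) from hle ha
    rw [← IsLocalization.AtPrime.map_eq_maximalIdeal (hU.primeIdealOf ⟨f x, hl⟩).asIdeal
      ((P n k).presheaf.stalk (f x)), Ideal.map_map]
    refine Ideal.map_le_iff_le_comap.2 ((prime_le_span hl hy).trans (Ideal.span_le.2 ?_))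
    rintro _ ⟨c, rfl, hp⟩
    refine Submodule.subset_span ⟨c, (hc c).symm, ?_⟩
    refine (hJ _ _).2 ?_
    show (f.stalkMap x).hom ((P n k).presheaf.germ (ch l) (f x) hl (zl l c)) ∈ m
    rw [IsLocalRing.mem_maximalIdeal, mem_nonunits_iff, isUnit_map_iff, ← Scheme.mem_basicOpen,
      UfdExtend.mem_basicOpen_iff hU hl, not_not]
    exact hp

theorem isProper_of_comp [IsProper pX] (hf : f ≫ CohB1.ProjSpace.toSpec n k = pX) : IsProper f := by
  haveI := ProjMor.isProper_toSpec n k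
  haveI : IsProper (f ≫ CohB1.ProjSpace.toSpec n k) := by rw [hf]; infer_instance
  exact IsProper.of_comp f (CohB1.ProjSpace.toSpec n k)

/-- Separation of points and of tangent vectors. -/
theorem conds_of_isClosedImmersion (hf : f ≫ CohB1.ProjSpace.toSpec n k = pX) [IsClosedImmersion f] :
    (∀ P Q : X, IsClosed ({P} : Set X) → IsClosed ({Q} : Set X) → P ≠ Q →
      ∃ c, sgerm f pX c P ∈ mL f P ∧ sgerm f pX c Q ∉ mL f Q) ∧
    ∀ P : X, IsClosed ({P} : Set X) → mL f P ≤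
      Submodule.span (X.presheaf.stalk P) {v | ∃ c, v = sgerm f pX c P ∧ v ∈ mL f P} ⊔
        IsLocalRing.maximalIdeal (X.presheaf.stalk P) ^ 2 • ⊤ := by
  subst hf
  have hcl : ∀ w : X, IsClosed ({w} : Set X) → IsClosed ({f w} : Set (CohB1.ProjSpace n k)) := fun w hw => by
    simpa [Set.image_singleton] using f.isClosedEmbedding.isClosedMap _ hw
  refine ⟨fun A B hA hB hne => ?_, fun A hA => (tangent_iff f (hcl A hA)).2 ?_⟩
  · obtain ⟨l, c, h1, hl, h2⟩ := exists_sep (hcl A hA) (hcl B hB)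
      fun h => hne (f.isClosedEmbedding.injective h)
    obtain ⟨l', hl'⟩ := PicPn.exists_mem_ch (f A)
    exact ⟨c, (sgerm_mem_iff f hl' c).2 h2, fun h => (sgerm_mem_iff f hl c).1 h h1⟩
  · refine le_antisymm (sup_le (Ideal.map_le_iff_le_comap.2 fun r hr => ?_) (Ideal.pow_le_self two_ne_zero))
      fun r hr => ?_
    · show (f.stalkMap A).hom r ∈ IsLocalRing.maximalIdeal _
      rw [IsLocalRing.mem_maximalIdeal, mem_nonunits_iff, isUnit_map_iff]
      exact hr
    · obtain ⟨r, rfl⟩ := f.stalkMap_surjective A r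
      refine Submodule.mem_sup_left (Ideal.mem_map_of_mem _ ?_)
      rwa [IsLocalRing.mem_maximalIdeal, mem_nonunits_iff, isUnit_map_iff] at hr

theorem isClosedImmersion_of_conds [IsProper pX] (hf : f ≫ CohB1.ProjSpace.toSpec n k = pX)
    (h1 : ∀ P Q : X, IsClosed ({P} : Set X) → IsClosed ({Q} : Set X) → P ≠ Q → ∃ c,
      (sgerm f pX c P ∈ mL f P ∧ sgerm f pX c Q ∉ mL f Q) ∨ (sgerm f pX c Q ∈ mL f Q ∧ sgerm f pX c P ∉ mL f P))
    (h2 : ∀ P : X, IsClosed ({P} : Set X) → mL f P ≤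
      Submodule.span (X.presheaf.stalk P) {v | ∃ c, v = sgerm f pX c P ∧ v ∈ mL f P} ⊔
        IsLocalRing.maximalIdeal (X.presheaf.stalk P) ^ 2 • ⊤) :
    IsClosedImmersion f := by
  haveI := isProper_of_comp f hf
  subst hf
  haveI := ProjMor.isProper_toSpec n k
  refine S10867.result k f (CohB1.ProjSpace.toSpec n k) (fun A hA B hB h => ?_) fun A hA => ?_
  · by_contra hne
    obtain ⟨l, hl⟩ := PicPn.exists_mem_ch (f A)
    have hl' : f B ∈ ch l := by
      have hAB : f A = f B := h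
      rwa [← hAB]
    obtain ⟨c, hc | hc⟩ := h1 A B hA hB hne <;>
    · rw [sgerm_mem_iff f hl, sgerm_mem_iff f hl', show f B = f A from h.symm] at hc
      exact hc.2 hc.1
  · have hy : IsClosed ({f A} : Set (CohB1.ProjSpace n k)) := by
      simpa [Set.image_singleton] using f.isClosedMap _ hA
    exact (tangent_iff f hy).1 (h2 A hA)

end Mor

theorem isProper_of_proj {X : Scheme.{u}} {pX : X ⟶ Spec (CommRingCat.of k)}
    (hproj : ∃ (N : ℕ) (ι : X ⟶ CohB1.ProjSpace N k), IsClosedImmersion ι ∧ ι ≫ CohB1.ProjSpace.toSpec N k = pX) :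
    IsProper pX := by
  obtain ⟨N, ι, hι, rfl⟩ := hproj
  haveI := ProjMor.isProper_toSpec N k
  infer_instance

end Groth.Agent.ProjSep
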